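import Groth.Agent.Lib.ColimHom20.Main
import Groth.Agent.Lib.OX.CompactBdd
import Groth.Agent.Lib.OX.QCohCx
import Groth.Agent.Lib.Cohom.Compare
import Mathlib.CategoryTheory.Functor.OfSequence

/-! # Derived limits of surjective systems of quasi-coherent modules -/

set_option autoImplicit false
set_option backward.isDefEq.respectTransparency false
set_option linter.style.haveILetI false
set_option maxHeartbeats 1000000
universe u

open CategoryTheory CategoryTheory.Limits CategoryTheory.Pretriangulated AlgebraicGeometry Opposite TopologicalSpace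
open GrothLib.OX (genF isLocGen_genF)
open GrothLib.SiteDer (theta)

attribute [local instance] HasDerivedCategory.standard

noncomputable section

namespace GrothLib.RlimQCoh20

variable {X : Scheme.{u}} {F : ℕ → X.Modules}

/-- The generator in degree `k`. -/
abbrev sgen (W : X.Opens) (k : ℤ) : DCoh.D X := (DerivedCategory.singleFunctor X.Modules k).obj ((genF X).obj W)

/-- The members in degree zero. -/
abbrev mem0 (F : ℕ → X.Modules) (n : ℕ) : DCoh.D X := DCoh.inD X (F n)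

theorem hom_mem_eq_zero (hF : ∀ n, Coh.IsQCoh (F n)) {W : X.Opens} (hW : IsAffineOpen W) {k : ℤ} (hk : k ≠ 0)
    (n : ℕ) (φ : sgen W k ⟶ mem0 F n) : φ = 0 := by
  rcases lt_or_gt_of_ne hk with h | h
  · exact DerivedCategory.TStructure.t.zero_of_isLE_of_isGE φ k 0 h
      (inferInstance : (sgen W k).IsLE k) (inferInstance : (mem0 F n).IsGE 0)
  · exact OX.hom_gen_qcoh_eq_zero hW (hF n) h φ

theorem exists_solve (t : ∀ n, F (n + 1) ⟶ F n) (hF : ∀ n, Coh.IsQCoh (F n)) (ht : ∀ n, 1 ≤ n → Epi (t n))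
    {W : X.Opens} (hW : IsAffineOpen W) (b : ∀ n, (genF X).obj W ⟶ F n) :
    ∃ w : ∀ n, (genF X).obj W ⟶ F n, ∀ n, w n - w (n + 1) ≫ t n = b n := by
  have hl : ∀ (n : ℕ) (g : (genF X).obj W ⟶ F (n + 1)), ∃ g' : (genF X).obj W ⟶ F (n + 2), g' ≫ t (n + 1) = g :=
    fun n g => haveI := ht (n + 1) (by omega)
      OX.exists_lift_gen_of_epi hW (hF _) (hF _) (t (n + 1)) g
  choose l hl using hl
  let v : ∀ n, (genF X).obj W ⟶ F (n + 1) := fun n =>
    Nat.rec (motive := fun n => (genF X).obj W ⟶ F (n + 1)) 0 (fun m x => l m (x - b (m + 1))) n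
  refine ⟨fun | 0 => b 0 + v 0 ≫ t 0 | m + 1 => v m, fun | 0 => add_sub_cancel_right _ _ | m + 1 => ?_⟩
  show v m - v (m + 1) ≫ t (m + 1) = b (m + 1)
  rw [show v (m + 1) = l m (v m - b (m + 1)) from rfl, hl, sub_sub_cancel]

variable (t : ∀ n, F (n + 1) ⟶ F n) [HasProduct fun n => mem0 F n]

/-- `1 - shift`. -/
def diff : (∏ᶜ fun n => mem0 F n) ⟶ ∏ᶜ fun n => mem0 F n :=
  Pi.lift fun n => Pi.π _ n - Pi.π _ (n + 1) ≫ (DerivedCategory.singleFunctor X.Modules 0).map (t n)

variable (hF : ∀ n, Coh.IsQCoh (F n)) (ht : ∀ n, 1 ≤ n → Epi (t n)) {W : X.Opens} (hW : IsAffineOpen W)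

include hF ht hW in
theorem surjective_comp_diff (k : ℤ) (y : sgen W k ⟶ ∏ᶜ fun n => mem0 F n) : ∃ z, z ≫ diff t = y := by
  by_cases hk : k = 0
  · subst hk
    let R := DerivedCategory.singleFunctor X.Modules 0
    obtain ⟨w, hw⟩ := exists_solve t hF ht hW fun n => R.preimage (y ≫ Pi.π _ n)
    refine ⟨Pi.lift fun n => R.map (w n), Pi.hom_ext _ _ fun n => ?_⟩
    rw [diff, Category.assoc, Pi.lift_π, Preadditive.comp_sub, Pi.lift_π, ← Category.assoc, Pi.lift_π,
      ← Functor.map_comp, ← Functor.map_sub, hw n, Functor.map_preimage]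
  · exact ⟨0, Pi.hom_ext _ _ fun n => by
      rw [zero_comp, zero_comp, hom_mem_eq_zero hF hW hk n (y ≫ Pi.π _ n)]⟩

variable {L : DCoh.D X} {a : L ⟶ ∏ᶜ fun n => mem0 F n} {c : (∏ᶜ fun n => mem0 F n) ⟶ L⟦(1 : ℤ)⟧}
  (hT : Triangle.mk a (diff t) c ∈ distTriang _)

include hF ht hW hT in
theorem comp_injective (k : ℤ) (x : sgen W k ⟶ L) (hx : x ≫ a = 0) : x = 0 := by
  have hx' : x⟦(1 : ℤ)⟧' ≫ (Triangle.mk a (diff t) c).mor₁⟦(1 : ℤ)⟧' = 0 := by
    show x⟦(1 : ℤ)⟧' ≫ a⟦(1 : ℤ)⟧' = 0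
    rw [← Functor.map_comp, hx, Functor.map_zero]
  obtain ⟨y, hy⟩ := Triangle.coyoneda_exact₁ _ hT _ hx'
  let i := ColimHom20.sglShift ((genF X).obj W) (k - 1) k (by omega)
  obtain ⟨z, hz⟩ := surjective_comp_diff t hF ht hW (k - 1) (i.inv ≫ y)
  have h0 : (diff t) ≫ c = 0 := comp_distTriang_mor_zero₂₃ _ hT
  apply (shiftFunctor (DCoh.D X) (1 : ℤ)).map_injective
  rw [Functor.map_zero, hy, ← cancel_epi i.inv, comp_zero]
  show i.inv ≫ y ≫ c = 0
  rw [← Category.assoc, ← hz, Category.assoc, h0, comp_zero]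

include hF ht hW hT in
theorem hom_eq_zero (k : ℤ) (hk : k ≠ 0) (x : sgen W k ⟶ L) : x = 0 :=
  comp_injective t hF ht hW hT k x (Pi.hom_ext _ _ fun n => by
    rw [zero_comp, hom_mem_eq_zero hF hW hk n ((x ≫ a) ≫ Pi.π _ n)])

include hT in
theorem comp_w (n : ℕ) : (a ≫ Pi.π _ (n + 1)) ≫ (DerivedCategory.singleFunctor X.Modules 0).map (t n) =
    a ≫ Pi.π _ n := by
  have h : a ≫ diff t = 0 := comp_distTriang_mor_zero₁₂ _ hT
  have h' := congrArg (fun φ => φ ≫ Pi.π _ n) h
  simp only [diff, Category.assoc, Pi.lift_π, Preadditive.comp_sub, zero_comp, sub_eq_zero] at h'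
  rw [Category.assoc]
  exact h'.symm

include hT in
theorem exists_lift_family (k : ℤ) (g : ∀ n, sgen W k ⟶ mem0 F n)
    (hg : ∀ n, g (n + 1) ≫ (DerivedCategory.singleFunctor X.Modules 0).map (t n) = g n) :
    ∃ x : sgen W k ⟶ L, ∀ n, x ≫ a ≫ Pi.π _ n = g n := by
  obtain ⟨x, hx⟩ := Triangle.coyoneda_exact₂ _ hT (Pi.lift g) (by
    show Pi.lift g ≫ diff t = 0
    refine Pi.hom_ext _ _ fun n => ?_
    simp [diff, hg])
  exact ⟨x, fun n => by
    change Pi.lift g = x ≫ a at hx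
    rw [← Category.assoc, ← hx, Pi.lift_π]⟩

omit [HasProduct fun n => mem0 F n] in
theorem locally_affine (W : X.Opens) {P : ∀ ⦃W' : X.Opens⦄, (W' ⟶ W) → Prop}
    (hP : ∀ ⦃W' W''⦄ (a : W' ⟶ W) (b : W'' ⟶ W'), P a → P (b ≫ a))
    (hb : ∀ (W' : X.Opens) (hW' : W' ≤ W), IsAffineOpen W' → P (homOfLE hW')) :
    SiteDer.Locally (Opens.grothendieckTopology X.carrier) W P := by
  refine SiteDer.Locally.trans_family hP (ι := {W' : X.affineOpens // W'.1 ≤ W})
    (fun W' => homOfLE W'.2) (fun x hx => ?_)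
    fun W' => SiteDer.Locally.of_forall fun T b => hP _ b (hb _ W'.2 W'.1.2)
  obtain ⟨W', hW', hxW', hle⟩ := exists_isAffineOpen_mem_and_subset (x := x) (U := W) hx
  exact ⟨W', homOfLE hle, Sieve.ofArrows_mk (fun W' : {W' : X.affineOpens // W'.1 ≤ W} => W'.1.1)
    (fun W' => homOfLE W'.2) ⟨⟨W', hW'⟩, hle⟩, hxW'⟩

omit [HasProduct fun n => mem0 F n] in
theorem sep_affine {M : X.Modules} {W : X.Opens} (g : (genF X).obj W ⟶ M)
    (h : ∀ (W' : X.Opens) (hW' : W' ≤ W), IsAffineOpen W' → (genF X).map (homOfLE hW') ≫ g = 0) : g = 0 :=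
  (isLocGen_genF (X := X)).sep g (locally_affine W (fun _ _ a b h => by
    rw [Functor.map_comp, Category.assoc, h, comp_zero]) h)

include hF ht hT in
theorem isZero_HD (k : ℤ) (hk : k ≠ 0) : IsZero (DCoh.HD L k) :=
  (isLocGen_genF (X := X)).isZero fun U g => by
    have hG := isLocGen_genF (X := X)
    refine hG.sep g ?_
    obtain ⟨T, hT', hTP⟩ := hG.exists_theta g
    refine SiteDer.Locally.trans (fun _ _ a b h => by
      rw [Functor.map_comp, Category.assoc, h, comp_zero]) hT' fun V f hf => ?_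
    obtain ⟨φ, hφ⟩ := hTP f hf
    refine locally_affine V (fun _ _ a b h => by
      rw [Category.assoc, Functor.map_comp, Category.assoc, h, comp_zero]) fun W hW hA => ?_
    rw [Functor.map_comp, Category.assoc, ← hφ, ← SiteDer.theta_map_comp,
      hom_eq_zero t hF ht hA hT k hk
        ((DerivedCategory.singleFunctor X.Modules k).map ((genF X).map (homOfLE hW)) ≫ φ), SiteDer.theta_zero]

/-- A map into a derived limit placed in degree zero, in components. -/
def comps {M : X.Modules} (e : L ≅ DCoh.inD X M) (a : L ⟶ ∏ᶜ fun n => mem0 F n) (n : ℕ) : M ⟶ F n :=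
  (DerivedCategory.singleFunctor X.Modules 0).preimage (e.inv ≫ a ≫ Pi.π _ n)

include hF ht hT in
theorem exists_iso_limit : ∃ φ : DCoh.inD X (limit (Functor.ofOpSequence t)) ≅ L, True := by
  haveI : L.IsGE 0 := (DerivedCategory.isGE_iff L 0).2 fun i hi => isZero_HD t hF ht hT i (ne_of_lt hi)
  haveI : L.IsLE 0 := (DerivedCategory.isLE_iff L 0).2 fun i hi => isZero_HD t hF ht hT i (ne_of_gt hi)
  obtain ⟨M, ⟨e⟩⟩ := DerivedCategory.exists_iso_singleFunctor_obj_of_isGE_of_isLE L 0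
  let R := DerivedCategory.singleFunctor X.Modules 0
  let m : ∀ n, M ⟶ F n := comps e a
  have hm : ∀ n, R.map (m n) = e.inv ≫ a ≫ Pi.π _ n := fun n => R.map_preimage _
  have hmw : ∀ n, m (n + 1) ≫ t n = m n := fun n => R.map_injective (by
    rw [Functor.map_comp, hm, hm, Category.assoc, comp_w t hT n])
  let D := Functor.ofOpSequence t
  let γ : Cone D := { pt := M, π := NatTrans.ofOpSequence m (fun n => by
    rw [Functor.ofOpSequence_map_homOfLE_succ]
    exact (Category.id_comp _).trans (hmw n).symm) }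
  let φ : M ⟶ limit D := limit.lift D γ
  have hφ : ∀ n, φ ≫ limit.π D (op n) = m n := fun n => limit.lift_π γ (op n)
  have hπ : ∀ n, limit.π D (op (n + 1)) ≫ t n = limit.π D (op n) := fun n => by
    have := limit.w D (homOfLE (Nat.le_succ n)).op
    rw [Functor.ofOpSequence_map_homOfLE_succ] at this
    exact this
  have hinj : ∀ (W : X.Opens), IsAffineOpen W → ∀ g : (genF X).obj W ⟶ M, g ≫ φ = 0 → g = 0 := by
    intro W hW g hg
    have h : (R.map g ≫ e.inv) ≫ a = 0 := Pi.hom_ext _ _ fun n => by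
      rw [zero_comp, Category.assoc, Category.assoc, ← hm, ← Functor.map_comp, ← hφ, ← Category.assoc, hg,
        zero_comp, Functor.map_zero]
    refine R.map_injective ?_
    rw [Functor.map_zero, ← cancel_mono e.inv, zero_comp]
    exact comp_injective t hF ht hW hT 0 _ h
  have hsurj : ∀ (W : X.Opens), IsAffineOpen W → ∀ g : (genF X).obj W ⟶ limit D, ∃ g', g' ≫ φ = g := by
    intro W hW g
    obtain ⟨x, hx⟩ := exists_lift_family t hT 0 (fun n => R.map (g ≫ limit.π D (op n))) (fun n => by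
      rw [← Functor.map_comp, Category.assoc, hπ])
    refine ⟨R.preimage (x ≫ e.hom), limit.hom_ext fun ⟨n⟩ => R.map_injective ?_⟩
    rw [Category.assoc, hφ, Functor.map_comp, Functor.map_preimage, hm, Category.assoc, e.hom_inv_id_assoc]
    exact hx n
  haveI : Mono φ := (isLocGen_genF (X := X)).mono φ fun W g hg => sep_affine g fun W' hW' hA =>
    hinj W' hA _ (by rw [Category.assoc, hg, comp_zero])
  haveI : Epi φ := (isLocGen_genF (X := X)).epi φ fun W g => locally_affine W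
    (fun _ _ a b ⟨g', hg'⟩ => ⟨(genF X).map b ≫ g', by rw [Category.assoc, hg', Functor.map_comp, Category.assoc]⟩)
    fun W' hW' hA => hsurj W' hA _
  haveI := isIso_of_mono_of_epi φ
  exact ⟨R.mapIso (asIso φ).symm ≪≫ e.symm, trivial⟩

include hF ht in
theorem isRlim_and_acyclic :
    DCoh.IsRlim (fun n => DCoh.inD X (F n)) (fun n => (DerivedCategory.singleFunctor X.Modules 0).map (t n))
        (DCoh.inD X (limit (Functor.ofOpSequence t))) ∧
      ∀ (U : X.Opens), IsAffineOpen U → ∀ p : ℕ, 0 < p →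
        Subsingleton (Coh.HHon X (limit (Functor.ofOpSequence t)) U p) := by
  obtain ⟨L, a, c, hT⟩ := distinguished_cocone_triangle₁ (diff t)
  obtain ⟨φ, -⟩ := exists_iso_limit t hF ht hT
  refine ⟨⟨φ.hom ≫ a, c ≫ φ.inv⟦(1 : ℤ)⟧', isomorphic_distinguished _ hT _ ?_⟩, fun U hU p hp => ?_⟩
  · refine Triangle.isoMk _ _ φ (Iso.refl _) (Iso.refl _) ?_ ?_ ?_
    · exact Category.comp_id _
    · exact (Category.comp_id _).trans (Category.id_comp _).symm
    · show (c ≫ φ.inv⟦(1 : ℤ)⟧') ≫ φ.hom⟦(1 : ℤ)⟧' = 𝟙 _ ≫ c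
      rw [Category.assoc, ← Functor.map_comp, φ.inv_hom_id, CategoryTheory.Functor.map_id, Category.comp_id,
        Category.id_comp]
  · let M := limit (Functor.ofOpSequence t)
    haveI : Subsingleton (Abelian.Ext.{u} ((genF X).obj U) M p) := by
      refine ⟨fun x y => (ColimHom20.extEquiv ((genF X).obj U) p 0 p (by omega) M).injective ?_⟩
      have h : ∀ z : sgen U (p : ℤ) ⟶ DCoh.inD X M, z = 0 := fun z => by
        rw [← cancel_mono φ.hom, zero_comp]
        exact hom_eq_zero t hF ht hU hT (p : ℤ) (by omega) _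
      exact (h _).trans (h _).symm
    obtain ⟨e⟩ := OX.nonempty_extGenIso (X := X) U p
    obtain ⟨e'⟩ := Cohom.nonempty_HHon_equiv M U p
    have h₁ : Subsingleton ((OX.secCohFun X p U).obj M) :=
      @Equiv.subsingleton _ _ ((e.app M).addCommGroupIsoToAddEquiv).symm.toEquiv
        (inferInstance : Subsingleton (Abelian.Ext.{u} ((genF X).obj U) M p))
    haveI : Subsingleton (Abelian.Ext.{u} (Cohom.freeFun.obj U) (Coh.toAb M) p) :=
      @Equiv.subsingleton _ _ (SheafCoh.HUext (Coh.toAb M) p U).symm.toEquiv h₁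
    exact e'.toEquiv.subsingleton

end GrothLib.RlimQCoh20
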